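import Mathlib.GroupTheory.PGroup
import Mathlib.GroupTheory.Sylow
import Mathlib.GroupTheory.Coset.Card
import Mathlib.Algebra.BigOperators.Group.Finset.Basic
import Mathlib.Algebra.BigOperators.Pi
import Mathlib.Algebra.Order.BigOperators.Group.Finset
import Mathlib.GroupTheory.SpecificGroups.Cyclic

/-!
Average size of the fixed subgroups in a coprime action of a `q`-group without fixed points.
-/

set_option autoImplicit false
set_option linter.all false

namespace Cfsg.Agent.Lib.PrimitiveNilpotent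

universe u v

variable {Q : Type u} [Group Q] {V : Type v} [CommGroup V]

/-- The subgroup of fixed points of an automorphism. -/
def fixedBy (f : MulAut V) : Subgroup V where
  carrier := {v | f v = v}
  one_mem' := map_one f
  mul_mem' := fun {a b} (ha : f a = a) (hb : f b = b) => by
    show f (a * b) = a * b
    rw [map_mul, ha, hb]
  inv_mem' := fun {a} (ha : f a = a) => by
    show f a⁻¹ = a⁻¹
    rw [map_inv, ha]

theorem mem_fixedBy {f : MulAut V} {v : V} : v ∈ fixedBy f ↔ f v = v := Iff.rfl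

/-- The elements fixing a point. -/
def pointStab (φ : Q →* MulAut V) (v : V) : Subgroup Q where
  carrier := {x | φ x v = v}
  one_mem' := by
    show φ 1 v = v
    rw [map_one]; rfl
  mul_mem' := fun {a b} (ha : φ a v = v) (hb : φ b v = v) => by
    show φ (a * b) v = v
    rw [map_mul, MulAut.mul_apply, hb, ha]
  inv_mem' := fun {a} (ha : φ a v = v) => by
    show φ a⁻¹ v = v
    conv_lhs => rw [← ha]
    rw [← MulAut.mul_apply, ← map_mul, inv_mul_cancel, map_one]; rfl

theorem mem_pointStab {φ : Q →* MulAut V} {v : V} {x : Q} : x ∈ pointStab φ v ↔ φ x v = v :=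
  Iff.rfl

/-- Restriction of an action to an invariant subgroup. -/
def restrictAction (φ : Q →* MulAut V) (S : Subgroup V) (h : ∀ x, ∀ v ∈ S, φ x v ∈ S) :
    Q →* MulAut S where
  toFun x :=
    { toFun := fun v => ⟨φ x v, h x v v.2⟩
      invFun := fun v => ⟨φ x⁻¹ v, h x⁻¹ v v.2⟩
      left_inv := fun v => Subtype.ext (by
        show φ x⁻¹ (φ x v) = v
        rw [← MulAut.mul_apply, ← map_mul, inv_mul_cancel, map_one]; rfl)
      right_inv := fun v => Subtype.ext (by
        show φ x (φ x⁻¹ v) = v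
        rw [← MulAut.mul_apply, ← map_mul, mul_inv_cancel, map_one]; rfl)
      map_mul' := fun a b => Subtype.ext (map_mul (φ x) (a : V) (b : V)) }
  map_one' := MulEquiv.ext fun v => Subtype.ext (by
    show φ 1 (v : V) = v
    rw [map_one]; rfl)
  map_mul' := fun a b => MulEquiv.ext fun v => Subtype.ext (by
    show φ (a * b) (v : V) = φ a (φ b v)
    rw [map_mul]; rfl)

theorem restrictAction_apply (φ : Q →* MulAut V) (S : Subgroup V) (h : ∀ x, ∀ v ∈ S, φ x v ∈ S)
    (x : Q) (v : S) : (restrictAction φ S h x v : V) = φ x v := rfl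

theorem swap_apply (φ : Q →* MulAut V) {a b : Q} (h : a * b = b * a) (v : V) :
    φ a (φ b v) = φ b (φ a v) := by
  rw [← MulAut.mul_apply, ← map_mul, h, map_mul, MulAut.mul_apply]

/-- The product of the sizes of the fixed subgroups, to the power `q`, is at most `|V| ^ |Q|`. -/
theorem prod_card_fixedBy_pow_le (q : ℕ) [hq : Fact q.Prime] (n : ℕ) :
    ∀ (Q : Type u) [Group Q] [Fintype Q] (V : Type v) [CommGroup V] [Finite V],
      Nat.card Q = n → IsPGroup q Q → (Nat.card V).Coprime q →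
      ∀ φ : Q →* MulAut V, (∀ v, (∀ x, φ x v = v) → v = 1) →
      (∏ x, Nat.card (fixedBy (φ x))) ^ q ≤ Nat.card V ^ Nat.card Q := by
  induction n using Nat.strong_induction_on with
  | _ n ih =>
  intro Q _ _ V _ _ hn hQ hco φ hfix
  classical
  rcases subsingleton_or_nontrivial Q with hs | hs
  · haveI : Subsingleton V := ⟨fun a b => by
      rw [hfix a fun x => by rw [Subsingleton.elim x 1, map_one]; rfl,
        hfix b fun x => by rw [Subsingleton.elim x 1, map_one]; rfl]⟩
    simp [Nat.card_unique]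
  haveI := hQ.center_nontrivial
  obtain ⟨k, hk0, hk⟩ := (hQ.to_subgroup (Subgroup.center Q)).nontrivial_iff_card.mp inferInstance
  obtain ⟨z0, hz0⟩ := exists_prime_orderOf_dvd_card' (G := Subgroup.center Q) q
    (hk ▸ dvd_pow_self q hk0.ne')
  set z : Q := (z0 : Q) with hzdef
  have hzo : orderOf z = q := by rw [hzdef, Subgroup.orderOf_coe, hz0]
  set Z := Subgroup.zpowers z with hZdef
  have hZc : Z ≤ Subgroup.center Q := Subgroup.zpowers_le.2 z0.2
  have hcomm : ∀ w ∈ Z, ∀ y : Q, w * y = y * w := fun w hw y =>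
    (Subgroup.mem_center_iff.1 (hZc hw) y).symm
  haveI : Z.Normal := ⟨fun w hw y => by rwa [← hcomm w hw y, mul_inv_cancel_right]⟩
  have hZcard : Nat.card Z = q := by rw [hZdef, Nat.card_zpowers, hzo]
  haveI := Fintype.ofFinite Z
  -- points fixed by a nontrivial element of `Z`
  have hgen : ∀ (w : Q), w ∈ Z → w ≠ 1 → ∀ v, φ w v = v → φ z v = v := by
    intro w hw hw1 v hv
    haveI : Fact (Nat.card Z).Prime := ⟨hZcard.symm ▸ hq.out⟩
    rcases ((pointStab φ v).subgroupOf Z).eq_bot_or_eq_top_of_prime_card with h | h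
    · exact absurd (congrArg Subtype.val ((Subgroup.eq_bot_iff_forall _).1 h ⟨w, hw⟩ hv)) hw1
    · exact Subgroup.subgroupOf_eq_top.1 h (Subgroup.mem_zpowers z)
  set V1 := fixedBy (φ z) with hV1
  have hV1fix : ∀ v ∈ V1, ∀ w ∈ Z, φ w v = v := fun v hv w hw =>
    (Subgroup.zpowers_le.2 (show z ∈ pointStab φ v from hv)) hw
  have hV1inv : ∀ x, ∀ v ∈ V1, φ x v ∈ V1 := fun x v hv => by
    show φ z (φ x v) = φ x v
    rw [swap_apply φ (hcomm z (Subgroup.mem_zpowers z) x), show φ z v = v from hv]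
  -- the norm
  let N : V →* V := MonoidHom.mk' (fun v => ∏ w : Z, φ w v)
    (fun a b => by simp only [map_mul]; exact Finset.prod_mul_distrib)
  set V2 := N.ker with hV2
  have hNfix : ∀ v, N v ∈ V1 := fun v => by
    show φ z (∏ w : Z, φ w v) = ∏ w : Z, φ w v
    rw [map_prod]
    refine Fintype.prod_equiv (Equiv.mulLeft (⟨z, Subgroup.mem_zpowers z⟩ : Z)) _ _ fun w => ?_
    show φ z (φ (w : Q) v) = φ (z * (w : Q)) v
    rw [map_mul]; rfl
  have hN1 : ∀ v ∈ V1, N v = v ^ q := fun v hv => by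
    show ∏ w : Z, φ w v = v ^ q
    rw [Finset.prod_congr rfl fun (w : Z) _ => hV1fix v hv w w.2, Finset.prod_const, Finset.card_univ,
      ← Nat.card_eq_fintype_card, hZcard]
  have hV2inv : ∀ x, ∀ v ∈ V2, φ x v ∈ V2 := fun x v hv => by
    show N (φ x v) = 1
    show ∏ w : Z, φ w (φ x v) = 1
    rw [Finset.prod_congr rfl fun (w : Z) _ => swap_apply φ (hcomm w w.2 x) v, ← map_prod,
      show ∏ w : Z, φ w v = 1 from hv, map_one]
  have hco1 : (Nat.card V1).Coprime q :=
    hco.coprime_dvd_left (Subgroup.card_subgroup_dvd_card V1)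
  have hmeet : ∀ v ∈ V1, v ∈ V2 → v = 1 := fun v h1 h2 => by
    have h3 : (⟨v, h1⟩ : V1) ^ q = 1 := Subtype.ext (by
      show v ^ q = 1
      rw [← hN1 v h1]; exact h2)
    have h4 : powCoprime hco1 ⟨v, h1⟩ = powCoprime hco1 1 := by
      simp only [powCoprime_apply, one_pow]
      exact h3
    exact congrArg Subtype.val ((powCoprime hco1).injective h4)
  have hsplit : ∀ v : V, ∃ a ∈ V1, ∃ b ∈ V2, v = a * b := fun v => by
    obtain ⟨a, ha⟩ := (powCoprime hco1).surjective ⟨N v, hNfix v⟩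
    refine ⟨a, a.2, (a : V)⁻¹ * v, ?_, (mul_inv_cancel_left _ _).symm⟩
    show N ((a : V)⁻¹ * v) = 1
    have h : (a : V) ^ q = N v := congrArg Subtype.val ha
    rw [map_mul, map_inv, hN1 a a.2, h, inv_mul_cancel]
  -- equivalence `V ≃ V1 × V2`
  let μ : V1 × V2 → V := fun ab => ab.1 * ab.2
  have hμi : Function.Injective μ := by
    rintro ⟨a, b⟩ ⟨a', b'⟩ (h : (a : V) * b = a' * b')
    have h1 : (a' : V)⁻¹ * a = b' * (b : V)⁻¹ := by
      rw [eq_mul_inv_iff_mul_eq, mul_assoc, h, inv_mul_cancel_left]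
    have h2 := hmeet _ (mul_mem (inv_mem a'.2) a.2) (h1 ▸ mul_mem b'.2 (inv_mem b.2))
    have h3 : (a : V) = a' := (inv_mul_eq_one.1 h2).symm
    exact Prod.ext (Subtype.ext h3) (Subtype.ext (mul_left_cancel (h3 ▸ h)))
  have hcardV : Nat.card V = Nat.card V1 * Nat.card V2 := by
    rw [← Nat.card_prod]
    refine (Nat.card_eq_of_bijective μ ⟨hμi, fun v => ?_⟩).symm
    obtain ⟨a, ha, b, hb, rfl⟩ := hsplit v
    exact ⟨(⟨a, ha⟩, ⟨b, hb⟩), rfl⟩
  set φ1 := restrictAction φ V1 hV1inv
  set φ2 := restrictAction φ V2 hV2inv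
  have hcardC : ∀ x, Nat.card (fixedBy (φ x)) = Nat.card (fixedBy (φ1 x)) * Nat.card (fixedBy (φ2 x)) := by
    intro x
    rw [← Nat.card_prod]
    refine (Nat.card_eq_of_bijective (fun ab : fixedBy (φ1 x) × fixedBy (φ2 x) =>
      (⟨((ab.1 : V1) : V) * ((ab.2 : V2) : V), by
        show φ x _ = _
        rw [map_mul, ← restrictAction_apply φ V1 hV1inv x, show φ1 x ab.1 = (ab.1 : V1) from ab.1.2,
          ← restrictAction_apply φ V2 hV2inv x, show φ2 x ab.2 = (ab.2 : V2) from ab.2.2]⟩ :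
        fixedBy (φ x))) ⟨fun ab ab' h => ?_, fun v => ?_⟩).symm
    · have h' := hμi (a₁ := ((ab.1 : V1), (ab.2 : V2))) (a₂ := ((ab'.1 : V1), (ab'.2 : V2)))
        (congrArg Subtype.val h)
      exact Prod.ext (Subtype.ext (Prod.ext_iff.1 h').1) (Subtype.ext (Prod.ext_iff.1 h').2)
    · obtain ⟨a, ha, b, hb, hab⟩ := hsplit v
      have h : φ x a * φ x b = a * b := by rw [← map_mul, ← hab]; exact v.2
      have h' := hμi (a₁ := (⟨_, hV1inv x a ha⟩, ⟨_, hV2inv x b hb⟩)) (a₂ := (⟨a, ha⟩, ⟨b, hb⟩)) h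
      exact ⟨(⟨⟨a, ha⟩, (Prod.ext_iff.1 h').1⟩, ⟨⟨b, hb⟩, (Prod.ext_iff.1 h').2⟩), Subtype.ext hab.symm⟩
  -- the fixed part, by induction
  have hker : Z ≤ φ1.ker := fun w hw => MonoidHom.mem_ker.2 (MulEquiv.ext fun v => Subtype.ext (by
    rw [restrictAction_apply]; exact hV1fix v v.2 w hw))
  let ψ : Q ⧸ Z →* MulAut V1 := QuotientGroup.lift Z φ1 hker
  haveI := Fintype.ofFinite (Q ⧸ Z)
  have hQc : Nat.card Q = Nat.card (Q ⧸ Z) * q := by
    rw [Subgroup.card_eq_card_quotient_mul_card_subgroup Z, hZcard]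
  have hlt : Nat.card (Q ⧸ Z) < n := by
    rw [← hn, hQc]
    exact (lt_mul_iff_one_lt_right Nat.card_pos).2 hq.out.one_lt
  have hIH := ih _ hlt (Q ⧸ Z) V1 rfl (hQ.to_quotient Z) hco1 ψ fun v hv => Subtype.ext <|
    hfix v fun x => congrArg Subtype.val (hv (QuotientGroup.mk x))
  have h1 : ∏ x, Nat.card (fixedBy (φ1 x)) = (∏ y, Nat.card (fixedBy (ψ y))) ^ q := by
    rw [Fintype.prod_equiv Subgroup.groupEquivQuotientProdSubgroup (fun x => Nat.card (fixedBy (φ1 x)))
      (fun yz : (Q ⧸ Z) × Z => Nat.card (fixedBy (ψ yz.1))) (fun x => rfl), Fintype.prod_prod_type]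
    simp only [Finset.prod_const, Finset.card_univ, ← Nat.card_eq_fintype_card, hZcard]
    exact Finset.prod_pow _ _ _
  -- the part without fixed points
  have hind : ∀ (x : Q) (s : Finset Z) (c : Z → V),
      (∀ w ∈ s, c w ∈ V2 ∧ φ (x * w) (c w) = c w) → ∏ w ∈ s, c w = 1 → ∀ w ∈ s, c w = 1 := by
    intro x s
    induction s using Finset.induction_on with
    | empty => simp
    | @insert j s hj ihs =>
      intro c hc hprod
      have hxc : ∀ w ∈ insert j s, φ x (c w) = φ (w : Q)⁻¹ (c w) := fun w hw => by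
        conv_rhs => rw [← (hc w hw).2, ← MulAut.mul_apply, ← map_mul, ← hcomm _ w.2 x, inv_mul_cancel_left]
      have hd : ∀ w ∈ s, φ x (c w) * (φ (j : Q)⁻¹ (c w))⁻¹ = 1 := by
        refine ihs (fun w => φ x (c w) * (φ (j : Q)⁻¹ (c w))⁻¹) (fun w hw => ?_) ?_
        · obtain ⟨h2, h3⟩ := hc w (Finset.mem_insert_of_mem hw)
          refine ⟨mul_mem (hV2inv _ _ h2) (inv_mem (hV2inv _ _ h2)), ?_⟩
          have e1 : (x * w) * x = x * (x * (w : Q)) := by rw [mul_assoc, hcomm _ w.2 x]
          have e2 : (x * w) * (j : Q)⁻¹ = (j : Q)⁻¹ * (x * w) := (hcomm _ (inv_mem j.2) _).symm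
          rw [map_mul, map_inv, swap_apply φ e1, swap_apply φ e2, h3]
        · have h0 : ∏ w ∈ insert j s, φ x (c w) * (φ (j : Q)⁻¹ (c w))⁻¹ = 1 := by
            rw [Finset.prod_mul_distrib, Finset.prod_inv_distrib, ← map_prod, ← map_prod, hprod, map_one,
              map_one, inv_one, mul_one]
          rwa [Finset.prod_insert hj, hxc j (Finset.mem_insert_self j s), mul_inv_cancel, one_mul] at h0
      have hs1 : ∀ w ∈ s, c w = 1 := fun w hw => by
        have e := hd w hw
        rw [hxc w (Finset.mem_insert_of_mem hw), mul_inv_eq_one] at e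
        refine hmeet _ ?_ (hc w (Finset.mem_insert_of_mem hw)).1
        refine hgen ((j : Q) * (w : Q)⁻¹) (mul_mem j.2 (inv_mem w.2))
          (fun he => hj (by rwa [← Subtype.ext (mul_inv_eq_one.1 he)] at hw)) _ ?_
        rw [map_mul, MulAut.mul_apply, e, ← MulAut.mul_apply, ← map_mul, mul_inv_cancel, map_one]
        rfl
      intro w hw
      rcases Finset.mem_insert.1 hw with rfl | hw
      · rwa [Finset.prod_insert hj, Finset.prod_eq_one hs1, mul_one] at hprod
      · exact hs1 w hw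
  have h2x : ∀ x, ∏ w : Z, Nat.card (fixedBy (φ2 (x * w))) ≤ Nat.card V2 := by
    intro x
    rw [← Nat.card_pi]
    let f : (∀ w : Z, fixedBy (φ2 (x * w))) →* V2 := MonoidHom.mk' (fun c => ∏ w, (c w : V2))
      (fun a b => by simp only [Pi.mul_apply, Subgroup.coe_mul]; exact Finset.prod_mul_distrib)
    refine Nat.card_le_card_of_injective f ((injective_iff_map_eq_one f).2 fun c hc => ?_)
    have h := hind x Finset.univ (fun w => ((c w : V2) : V))
      (fun w _ => ⟨(c w : V2).2, congrArg Subtype.val (c w).2⟩)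
      (by simpa [f] using congrArg Subtype.val hc)
    funext w
    exact Subtype.ext (Subtype.ext (h w (Finset.mem_univ w)))
  have h2 : (∏ x, Nat.card (fixedBy (φ2 x))) ^ q ≤ Nat.card V2 ^ Nat.card Q :=
    calc (∏ x, Nat.card (fixedBy (φ2 x))) ^ q
        = ∏ w : Z, ∏ x, Nat.card (fixedBy (φ2 (x * w))) := by
          rw [Finset.prod_congr rfl fun (w : Z) _ =>
            Fintype.prod_equiv (Equiv.mulRight (w : Q)) (fun x => Nat.card (fixedBy (φ2 (x * w))))
              (fun x => Nat.card (fixedBy (φ2 x))) fun x => rfl,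
            Finset.prod_const, Finset.card_univ, ← Nat.card_eq_fintype_card, hZcard]
      _ = ∏ x, ∏ w : Z, Nat.card (fixedBy (φ2 (x * w))) := Finset.prod_comm
      _ ≤ ∏ _x : Q, Nat.card V2 := Finset.prod_le_prod' fun x _ => h2x x
      _ = Nat.card V2 ^ Nat.card Q := by
          rw [Finset.prod_const, Finset.card_univ, Nat.card_eq_fintype_card (α := Q)]
  rw [Finset.prod_congr rfl fun x _ => hcardC x, Finset.prod_mul_distrib, mul_pow, hcardV, mul_pow]
  refine Nat.mul_le_mul ?_ h2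
  rw [h1, ← pow_mul, mul_comm q q, pow_mul, hQc, pow_mul]
  exact Nat.pow_le_pow_left hIH q

/-- Some element of a `q`-group acting coprimely without fixed points fixes at most `√|V|` points. -/
theorem exists_small_fixedBy {q : ℕ} [hq : Fact q.Prime] [Finite Q] [Finite V] (hQ : IsPGroup q Q)
    (hco : (Nat.card V).Coprime q) (φ : Q →* MulAut V) (hfix : ∀ v, (∀ x, φ x v = v) → v = 1) :
    ∃ x : Q, Nat.card (fixedBy (φ x)) ^ 2 ≤ Nat.card V := by
  haveI := Fintype.ofFinite Q
  by_contra hno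
  push Not at hno
  have h := prod_card_fixedBy_pow_le q (Nat.card Q) Q V rfl hQ hco φ hfix
  have h' : Nat.card V ^ Nat.card Q < (∏ x, Nat.card (fixedBy (φ x))) ^ q := by
    rw [← Finset.prod_pow, Nat.card_eq_fintype_card (α := Q), ← Finset.card_univ, ← Finset.prod_const]
    exact Finset.prod_lt_prod_of_nonempty (fun _ _ => Nat.card_pos)
      (fun x _ => (hno x).trans_le (Nat.pow_le_pow_right Nat.card_pos hq.out.two_le)) Finset.univ_nonempty
  exact absurd h h'.not_ge

end Cfsg.Agent.Lib.PrimitiveNilpotent
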