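import Cfsg.Agent.Lib.Characters.Gallagher
import Cfsg.Agent.Lib.Characters.ExtensionCoprime
import Cfsg.Agent.Lib.Characters.Kernel
import Cfsg.Agent.Lib.Characters.Clifford
import Mathlib.GroupTheory.Nilpotent

/-!
Quasi-primitive characters restrict irreducibly to a normal subgroup with nilpotent quotient.
-/

set_option autoImplicit false
set_option linter.all false

namespace Cfsg.Agent.Lib.PrimitiveNilpotent

open Cfsg Cfsg.Agent.Lib.Characters

universe u

variable {G : Type u} [Group G] [Finite G]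

/-- All restrictions to normal subgroups are homogeneous. -/
def IsQuasiPrimitive (χ : G → ℂ) : Prop :=
  ∀ A : Subgroup G, A.Normal → ∃ (φ : A → ℂ) (e : ℕ), IsIrrCharacter A φ ∧
    (fun x : A => χ x) = (e : ℂ) • φ

omit [Finite G] in
/-- A multiple `e • φ` equal to an irreducible character. -/
theorem eq_of_smul_irr {A : Type u} [Group A] [Finite A] {φ ψ : A → ℂ} {e : ℕ}
    (hφ : IsIrrCharacter A φ) (hψ : IsIrrCharacter A ψ) (h : ψ = (e : ℂ) • φ) : ψ = φ := by
  haveI := Fintype.ofFinite A
  by_contra hne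
  have h0 := IsIrrCharacter.classInner_ne hψ hφ hne
  rw [h, classInner_smul_left, IsIrrCharacter.classInner_self hφ, mul_one] at h0
  rw [h0] at h
  exact IsIrrCharacter.apply_one_ne_zero hψ (by rw [h]; simp)

/-- A quasi-primitive character restricts irreducibly to every normal subgroup with nilpotent
quotient. -/
theorem restrict_irr_of_nilpotent_quotient {χ : G → ℂ} (hχ : IsIrrCharacter G χ)
    (hqp : IsQuasiPrimitive χ) (N : Subgroup G) [hN : N.Normal] (hnil : Group.IsNilpotent (G ⧸ N)) :
    IsIrrCharacter N (fun n : N => χ n) := by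
  classical
  suffices H : ∀ (m : ℕ) (N : Subgroup G) [N.Normal], N.index = m → Group.IsNilpotent (G ⧸ N) →
      IsIrrCharacter N (fun n : N => χ n) from H _ N rfl hnil
  intro m
  induction m using Nat.strong_induction_on with
  | _ m ih =>
  intro N _ hm hnil
  haveI := hnil
  by_cases htop : N = ⊤
  · subst htop
    exact IsIrrCharacter.comp_equiv hχ Subgroup.topEquiv
  haveI : Nontrivial (G ⧸ N) := by
    obtain ⟨x, -, hx⟩ := SetLike.exists_of_lt (lt_top_iff_ne_top.2 htop)
    exact ⟨⟨QuotientGroup.mk x, 1, fun e => hx ((QuotientGroup.eq_one_iff x).1 e)⟩⟩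
  haveI : Nontrivial (Subgroup.center (G ⧸ N)) :=
    (Subgroup.nontrivial_iff_ne_bot _).2 (Group.IsNilpotent.center_ne_bot _)
  obtain ⟨r, hr, hrd⟩ := Nat.exists_prime_and_dvd (n := Nat.card (Subgroup.center (G ⧸ N)))
    Finite.one_lt_card.ne'
  haveI := Fact.mk hr
  obtain ⟨c, hc⟩ := exists_prime_orderOf_dvd_card' (G := Subgroup.center (G ⧸ N)) r hrd
  obtain ⟨t, ht⟩ := QuotientGroup.mk_surjective (c : G ⧸ N)
  set Zc := Subgroup.zpowers (c : G ⧸ N) with hZc
  haveI : Zc.Normal := ⟨fun w hw y => by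
    have hw' : w ∈ Subgroup.center (G ⧸ N) := Subgroup.zpowers_le.2 c.2 hw
    rwa [Subgroup.mem_center_iff.1 hw' y, mul_inv_cancel_right]⟩
  set M := Zc.comap (QuotientGroup.mk' N) with hM
  haveI : M.Normal := inferInstance
  have hNM : N ≤ M := fun x hx => by
    show QuotientGroup.mk' N x ∈ Zc
    rw [show QuotientGroup.mk' N x = 1 from (QuotientGroup.eq_one_iff x).2 hx]
    exact one_mem _
  have hMlt : M.index < N.index := by
    refine Nat.lt_of_le_of_ne (Nat.le_of_dvd (Nat.pos_of_ne_zero Subgroup.index_ne_zero_of_finite)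
      (Subgroup.index_dvd_of_le hNM)) fun he => ?_
    have h1 : (Zc.comap (QuotientGroup.mk' N)).index = Zc.index :=
      Zc.index_comap_of_surjective (QuotientGroup.mk'_surjective N)
    have h2 := Zc.card_mul_index
    rw [← h1, ← hM, he, hZc, Nat.card_zpowers, Subgroup.orderOf_coe, hc] at h2
    have h3 : N.index = Nat.card (G ⧸ N) := rfl
    rw [← h3] at h2
    exact hr.one_lt.ne' (mul_eq_right₀ Subgroup.index_ne_zero_of_finite |>.1 h2)
  have hMnil : Group.IsNilpotent (G ⧸ M) :=
    Group.nilpotent_of_surjective (QuotientGroup.map N M (MonoidHom.id G) hNM) fun y => by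
      obtain ⟨y, rfl⟩ := QuotientGroup.mk_surjective y
      exact ⟨QuotientGroup.mk y, rfl⟩
  have hψ := ih _ (hm ▸ hMlt) M rfl hMnil
  -- the homogeneous restriction to `N`
  obtain ⟨θ, e, hθ, hres⟩ := hqp N inferInstance
  haveI := Fintype.ofFinite G
  haveI := Fintype.ofFinite N
  haveI := Fintype.ofFinite M
  set N' := N.subgroupOf M
  haveI := Fintype.ofFinite N'
  let eN : N' ≃* N := Subgroup.subgroupOfEquivOfLe hNM
  set θ' : N' → ℂ := θ ∘ eN
  have hθ' : IsIrrCharacter N' θ' := IsIrrCharacter.comp_equiv hθ eN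
  have he0 : (e : ℂ) ≠ 0 := fun h0 => IsIrrCharacter.apply_one_ne_zero hχ (by
    have := congrFun hres 1
    simpa [h0] using this)
  have hcyc : IsCyclic (M ⧸ N') := by
    have hMc : ∀ x : M, QuotientGroup.mk' N (x : G) ∈ Zc := fun x => x.2
    let f : M →* Zc := ((QuotientGroup.mk' N).comp M.subtype).codRestrict Zc hMc
    have hfk : f.ker = N' := by
      ext x
      rw [MonoidHom.mem_ker, Subtype.ext_iff]
      show QuotientGroup.mk' N (x : G) = 1 ↔ (x : G) ∈ N
      exact QuotientGroup.eq_one_iff _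
    haveI : IsCyclic f.range := inferInstance
    exact isCyclic_of_injective
      ((QuotientGroup.quotientKerEquivRange f).toMonoidHom.comp
        (QuotientGroup.quotientMulEquivOfEq hfk.symm).toMonoidHom)
      ((QuotientGroup.quotientKerEquivRange f).injective.comp
        (QuotientGroup.quotientMulEquivOfEq hfk.symm).injective)
  have hinv : ∀ (g : M) (n : N'), θ' ⟨g * n * g⁻¹,
      (inferInstance : N'.Normal).conj_mem (n : M) n.2 g⟩ = θ' n := fun g n => by
    have h1 := congrFun hres (eN n)
    have h2 := congrFun hres (eN ⟨g * n * g⁻¹, (inferInstance : N'.Normal).conj_mem (n : M) n.2 g⟩)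
    simp only [Pi.smul_apply, smul_eq_mul] at h1 h2
    refine mul_left_cancel₀ he0 (h2.symm.trans (Eq.trans ?_ h1))
    exact IsCharacter.conj_apply (IsIrrCharacter.isCharacter hχ) _ _
  obtain ⟨ext, hext, hextres⟩ := exists_irr_extension_of_cyclic hcyc hθ' hinv
  set ψ : M → ℂ := fun x => χ x
  have hextN : (fun n : N' => ext n) = θ' := funext hextres
  have hne : classInner (fun n : N' => ψ n) (fun n : N' => ext n) ≠ 0 := by
    have h1 : (fun n : N' => ψ n) = (e : ℂ) • θ' := funext fun n => congrFun hres (eN n)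
    rw [hextN, h1, classInner_smul_left, IsIrrCharacter.classInner_self hθ', mul_one]
    exact he0
  obtain ⟨hβ, hprod⟩ := (gallagher_avg N' hext (hextN ▸ hθ') hψ).1 hne
  set β := Characters.avgN N' (ψ * fun g => starRingEnd ℂ (ext g))
  obtain ⟨β', hβ', hββ⟩ := IsIrrCharacter.exists_quotient hβ N' fun n hn =>
    avgN_apply_coe N' _ ⟨n, hn⟩
  haveI := hcyc
  have hb1 : β 1 = 1 := by
    rw [hββ, Function.comp_apply, map_one]
    exact IsIrrCharacter.apply_one_of_comm (fun a b => IsMulCommutative.is_comm.comm a b) hβ'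
  have h1 : χ 1 = θ 1 := by
    have := congrFun hprod 1
    simp only [Pi.mul_apply, hb1, one_mul] at this
    refine this.trans ((hextres 1).trans ?_)
    show θ (eN 1) = θ 1
    rw [map_one]
  have he1 : (e : ℂ) = 1 := by
    have h2 := congrFun hres 1
    simp only [Pi.smul_apply, smul_eq_mul, OneMemClass.coe_one, h1] at h2
    exact (mul_eq_right₀ (IsIrrCharacter.apply_one_ne_zero hθ)).1 h2.symm
  rw [hres, he1, one_smul]
  exact hθ

end Cfsg.Agent.Lib.PrimitiveNilpotent
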