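import Cfsg.Agent.Lib.PrimitiveNilpotent.Restrict
import Cfsg.Agent.Lib.PrimitiveNilpotent.FixedPoints
import Cfsg.Agent.Lib.Characters.DegreeRatio
import Cfsg.Agent.Lib.Characters.TwoDegreesPrime
import Cfsg.Agent.Lib.Characters.Ito
import Cfsg.Agent.Lib.Cores.Fitting
import Mathlib.GroupTheory.FiniteAbelian.Duality
import Mathlib.Analysis.Complex.Polynomial.Basic
import Mathlib.RingTheory.RootsOfUnity.AlgebraicallyClosed
import Cfsg.Agent.S4112

/-!
The `p`-part of a faithful quasi-primitive character with nilpotent quotient by the Fitting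
subgroup, and an element whose class size it divides.
-/

set_option autoImplicit false
set_option linter.all false

namespace Cfsg.Agent.Lib.PrimitiveNilpotent

open Cfsg Cfsg.Agent.Lib.Characters
open scoped commutatorElement

universe u

variable {G : Type u} [Group G] [Finite G] {χ : G → ℂ}

theorem exists_center_hom (hχ : IsIrrCharacter G χ) (hf : ∀ g, χ g = χ 1 → g = 1)
    (hqp : IsQuasiPrimitive χ) :
    (∀ A : Subgroup G, A.Normal → (∀ a ∈ A, ∀ b ∈ A, a * b = b * a) → A ≤ Subgroup.center G) ∧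
    ∃ lam : Subgroup.center G →* ℂˣ, Function.Injective lam := by
  have key : ∀ A : Subgroup G, A.Normal → (∀ a ∈ A, ∀ b ∈ A, a * b = b * a) →
      ∃ lam : A →* ℂˣ, Function.Injective lam ∧
        ∀ (g : G) (a b : A), (b : G) = g * a * g⁻¹ → lam b = lam a := by
    intro A hA hab
    obtain ⟨φ, e, hφ, hres⟩ := hqp A hA
    have h1 : φ 1 = 1 := IsIrrCharacter.apply_one_of_comm
      (fun a b => Subtype.ext (hab a a.2 b b.2)) hφ
    obtain ⟨lam, hlam⟩ := IsCharacter.exists_hom_of_apply_one (IsIrrCharacter.isCharacter hφ) h1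
    have hv : ∀ a : A, χ (a : G) = χ 1 * (lam a : ℂ) := fun a => by
      have h2 := congrFun hres a
      have h3 := congrFun hres 1
      simp only [Pi.smul_apply, smul_eq_mul, OneMemClass.coe_one, h1, mul_one] at h3
      rw [h3]
      simpa [hlam] using h2
    refine ⟨lam, (injective_iff_map_eq_one lam).2 fun a ha => Subtype.ext (hf a ?_), fun g a b hb => ?_⟩
    · rw [hv, ha, Units.val_one, mul_one]
    · refine Units.ext (mul_left_cancel₀ (IsIrrCharacter.apply_one_ne_zero hχ) ?_)
      rw [← hv, ← hv, hb, IsCharacter.conj_apply (IsIrrCharacter.isCharacter hχ)]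
  refine ⟨fun A hA hab a ha => Subgroup.mem_center_iff.2 fun g => ?_, ?_⟩
  · obtain ⟨lam, hinj, hinv⟩ := key A hA hab
    have h := hinj (hinv g ⟨a, ha⟩ ⟨g * a * g⁻¹, hA.conj_mem a ha g⟩ rfl)
    exact mul_inv_eq_iff_eq_mul.1 (congrArg Subtype.val h)
  · obtain ⟨lam, hinj, -⟩ := key (Subgroup.center G) inferInstance
      fun a ha b _ => (Subgroup.mem_center_iff.1 ha b).symm
    exact ⟨lam, hinj⟩

/-- The kernel of the action on `O_p(G)/Z` and an element of small fixed space. -/
theorem exists_element_for_prime (hχ : IsIrrCharacter G χ) (hf : ∀ g, χ g = χ 1 → g = 1)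
    (hqp : IsQuasiPrimitive χ) (hmeta : Group.IsNilpotent (G ⧸ fittingSubgroup G)) {p q : ℕ}
    [hp : Fact p.Prime] [hq : Fact q.Prime] (hpq : p ≠ q)
    (hprimes : ∀ r : ℕ, r.Prime → r ∣ Nat.card G → r = p ∨ r = q) (P : Sylow p G) (Q : Sylow q G) :
    ∃ (V : Type u) (_ : Group V) (φ : G →* MulAut V), (∀ y ∈ P, φ y = 1) ∧
      ∃ x ∈ Q, ∀ g : G, φ g = φ x → ∀ n : ℕ, χ 1 = n → ∀ k : ℕ, p ^ k ∣ n →
        p ^ k ∣ (Subgroup.centralizer ({g} : Set G)).index := by
  classical
  obtain ⟨habz, lam, hlam⟩ := exists_center_hom hχ hf hqp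
  set R := pCore p G with hRdef
  have hR : IsPGroup p R := Lib.Cores.pCore_isPGroup p G
  haveI : R.Normal := inferInstance
  -- the centre of `R` is central
  have hnormal : ∀ A : Subgroup R, (∀ g : G, ∀ a ∈ A, MulAut.conjNormal g a ∈ A) →
      (A.map R.subtype).Normal := fun A hA => ⟨by
    rintro _ ⟨a, ha, rfl⟩ g
    exact ⟨MulAut.conjNormal g a, hA g a ha, MulAut.conjNormal_apply g a⟩⟩
  have hZR : ∀ z ∈ Subgroup.center R, (z : G) ∈ Subgroup.center G := by
    intro z hz
    refine habz ((Subgroup.center R).map R.subtype) inferInstance ?_ (Subgroup.mem_map_of_mem _ hz)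
    rintro _ ⟨a, ha, rfl⟩ _ ⟨b, -, rfl⟩
    exact congrArg Subtype.val (Subgroup.mem_center_iff.1 ha b).symm
  -- class at most two
  have hcl : ∀ a b : R, ⁅a, b⁆ ∈ Subgroup.center R := by
    suffices h : commutator R ≤ Subgroup.center R from fun a b =>
      h (Subgroup.commutator_mem_commutator (Subgroup.mem_top a) (Subgroup.mem_top b))
    by_contra hcon
    set mkc := QuotientGroup.mk' (Subgroup.center R)
    haveI : ((commutator R).map mkc).Normal :=
      Subgroup.Normal.map inferInstance mkc (QuotientGroup.mk'_surjective _)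
    obtain ⟨w, hw, hwc, hw1⟩ := S4112.exists_mem_center_of_normal (hR.to_quotient (Subgroup.center R))
      ((commutator R).map mkc) (fun e => hcon (by
        rwa [Subgroup.map_eq_bot_iff, QuotientGroup.ker_mk'] at e))
    obtain ⟨c, hc, rfl⟩ := hw
    set Z2 := (Subgroup.center (R ⧸ Subgroup.center R)).comap mkc with hZ2
    have hZ2c : ⁅Z2, (⊤ : Subgroup R)⁆ ≤ Subgroup.center R := Subgroup.commutator_le.2 fun a ha b _ => by
      refine (QuotientGroup.eq_one_iff _).1 ?_
      show mkc ⁅a, b⁆ = 1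
      rw [map_commutatorElement, commutatorElement_eq_one_iff_mul_comm]
      exact (Subgroup.mem_center_iff.1 ha _).symm
    have hcz : ⁅Subgroup.center R, (⊤ : Subgroup R)⁆ = ⊥ := by
      rw [Subgroup.commutator_eq_bot_iff_le_centralizer]
      intro a ha
      exact Subgroup.mem_centralizer_iff.2 fun b _ => Subgroup.mem_center_iff.1 ha b
    have hc2 : ⁅commutator R, Z2⁆ = ⊥ := by
      refine Subgroup.commutator_commutator_eq_bot_of_rotate (H₁ := ⊤) (H₂ := ⊤) (H₃ := Z2) ?_ ?_
      · rw [eq_bot_iff, ← hcz]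
        exact Subgroup.commutator_mono ((Subgroup.commutator_comm _ _).le.trans hZ2c) le_rfl
      · rw [eq_bot_iff, ← hcz]
        exact Subgroup.commutator_mono hZ2c le_rfl
    refine hw1 ((QuotientGroup.eq_one_iff _).2 ?_)
    have hA : (c : G) ∈ Subgroup.center G := by
      refine habz ((commutator R ⊓ Z2).map R.subtype) (hnormal _ fun g a ha => ?_) ?_
        (Subgroup.mem_map_of_mem _ (Subgroup.mem_inf.2 ⟨hc, hwc⟩))
      · refine ⟨?_, ?_⟩
        · have h := Subgroup.mem_map_of_mem (MulAut.conjNormal g : MulAut R).toMonoidHom ha.1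
          rwa [Subgroup.characteristic_iff_map_eq.1 inferInstance (MulAut.conjNormal g : MulAut R)] at h
        · show mkc (MulAut.conjNormal g a) ∈ Subgroup.center _
          refine Subgroup.mem_center_iff.2 fun y => ?_
          obtain ⟨y, rfl⟩ := QuotientGroup.mk_surjective y
          obtain ⟨y, rfl⟩ := (MulAut.conjNormal g : MulAut R).surjective y
          have h := Subgroup.mem_center_iff.1 ha.2 (mkc y)
          rw [← map_mul, ← map_mul] at h
          show mkc _ * mkc _ = mkc _ * mkc _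
          rw [← map_mul, ← map_mul, ← map_mul, ← map_mul]
          refine (QuotientGroup.eq).2 ?_
          have h' := (QuotientGroup.eq).1 h
          have h'' := Subgroup.mem_map_of_mem (MulAut.conjNormal g : MulAut R).toMonoidHom h'
          rw [Subgroup.characteristic_iff_map_eq.1 inferInstance (MulAut.conjNormal g : MulAut R)] at h''
          simpa only [MulEquiv.coe_toMonoidHom, map_mul, map_inv] using h''
      · rintro _ ⟨a, ha, rfl⟩ _ ⟨b, hb, rfl⟩
        have h : ⁅a, b⁆ = 1 := Subgroup.mem_bot.1 (hc2 ▸ Subgroup.commutator_mem_commutator ha.1 hb.2)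
        exact congrArg Subtype.val (commutatorElement_eq_one_iff_mul_comm.1 h)
    exact Subgroup.mem_center_iff.2 fun b => Subtype.ext (Subgroup.mem_center_iff.1 hA b)
  letI : CommGroup (R ⧸ Subgroup.center R) :=
    { (inferInstance : Group (R ⧸ Subgroup.center R)) with
      mul_comm := fun a b => by
        induction a using QuotientGroup.induction_on with
        | H a =>
          induction b using QuotientGroup.induction_on with
          | H b =>
            rw [← QuotientGroup.mk_mul, ← QuotientGroup.mk_mul]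
            refine QuotientGroup.eq.2 ?_
            rw [show (a * b)⁻¹ * (b * a) = ⁅b⁻¹, a⁻¹⁆ by simp [commutatorElement_def, mul_assoc]]
            exact hcl _ _ }
  set mkc := QuotientGroup.mk' (Subgroup.center R) with hmkc
  -- the action
  have hchar : ∀ e : MulAut R, (Subgroup.center R).map (e : R →* R) = Subgroup.center R :=
    fun e => Subgroup.characteristic_iff_map_eq.1 inferInstance e
  let φ : G →* MulAut (R ⧸ Subgroup.center R) :=
    { toFun := fun g => QuotientGroup.congr _ _ (MulAut.conjNormal g : MulAut R) (hchar _)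
      map_one' := by
        refine MulEquiv.ext fun v => ?_
        induction v using QuotientGroup.induction_on with
        | H r => rw [QuotientGroup.congr_mk, map_one]; rfl
      map_mul' := fun g h => by
        refine MulEquiv.ext fun v => ?_
        induction v using QuotientGroup.induction_on with
        | H r =>
          rw [MulAut.mul_apply, QuotientGroup.congr_mk, QuotientGroup.congr_mk, QuotientGroup.congr_mk,
            map_mul]
          rfl }
  have hφmk : ∀ (g : G) (r : R), φ g (mkc r) = mkc (MulAut.conjNormal g r) := fun g r => rfl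
  -- the commutator pairing
  let cz : R → R → Subgroup.center G := fun r s => ⟨(⁅r, s⁆ : R), hZR _ (hcl r s)⟩
  have hmr : ∀ r s t : R, cz r (s * t) = cz r s * cz r t := fun r s t => by
    refine Subtype.ext ?_
    show ((⁅r, s * t⁆ : R) : G) = (⁅r, s⁆ : R) * (⁅r, t⁆ : R)
    rw [show (⁅r, s * t⁆ : R) = ⁅r, s⁆ * (s * ⁅r, t⁆ * s⁻¹) by simp [commutatorElement_def, mul_assoc],
      Subgroup.mem_center_iff.1 (hcl r t) s, mul_inv_cancel_right, Subgroup.coe_mul]
  have hml : ∀ r s t : R, cz (r * s) t = cz r t * cz s t := fun r s t => by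
    refine Subtype.ext ?_
    show ((⁅r * s, t⁆ : R) : G) = (⁅r, t⁆ : R) * (⁅s, t⁆ : R)
    rw [show (⁅r * s, t⁆ : R) = r * ⁅s, t⁆ * r⁻¹ * ⁅r, t⁆ by simp [commutatorElement_def, mul_assoc],
      Subgroup.mem_center_iff.1 (hcl s t) r, mul_inv_cancel_right,
      Subgroup.mem_center_iff.1 (hcl r t) ⁅s, t⁆, Subgroup.coe_mul]
  have hcz1 : ∀ r s : R, r * s = s * r → cz r s = 1 := fun r s h => Subtype.ext (by
    show ((⁅r, s⁆ : R) : G) = 1
    rw [commutatorElement_eq_one_iff_mul_comm.2 h, OneMemClass.coe_one])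
  let B1 : R → (R ⧸ Subgroup.center R →* ℂˣ) := fun r =>
    QuotientGroup.lift (Subgroup.center R) (MonoidHom.mk' (fun s => lam (cz r s))
      (fun s t => by rw [hmr, map_mul]))
      (fun s hs => MonoidHom.mem_ker.2 (by
        show lam (cz r s) = 1
        rw [hcz1 r s (Subgroup.mem_center_iff.1 hs r), map_one]))
  let B : R ⧸ Subgroup.center R →* (R ⧸ Subgroup.center R →* ℂˣ) :=
    QuotientGroup.lift (Subgroup.center R) (MonoidHom.mk' B1 (fun r s => by
        refine MonoidHom.ext fun v => ?_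
        induction v using QuotientGroup.induction_on with
        | H t => show lam (cz (r * s) t) = lam (cz r t) * lam (cz s t); rw [hml, map_mul]))
      (fun r hr => MonoidHom.mem_ker.2 (MonoidHom.ext fun v => by
        induction v using QuotientGroup.induction_on with
        | H t =>
          show lam (cz r t) = 1
          rw [hcz1 r t (Subgroup.mem_center_iff.1 hr t).symm, map_one]))
  have hBinv : ∀ g v w, B (φ g v) (φ g w) = B v w := by
    intro g v w
    obtain ⟨r, rfl⟩ := QuotientGroup.mk'_surjective _ v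
    obtain ⟨s, rfl⟩ := QuotientGroup.mk'_surjective _ w
    show lam (cz (MulAut.conjNormal g r) (MulAut.conjNormal g s)) = lam (cz r s)
    congr 1
    refine Subtype.ext ?_
    show ((⁅MulAut.conjNormal g r, MulAut.conjNormal g s⁆ : R) : G) = (⁅r, s⁆ : R)
    rw [show (⁅MulAut.conjNormal g r, MulAut.conjNormal g s⁆ : R) = MulAut.conjNormal g ⁅r, s⁆ from
      (map_commutatorElement (MulAut.conjNormal g : MulAut R).toMonoidHom r s).symm]
    rw [MulAut.conjNormal_apply, Subgroup.mem_center_iff.1 (hZR _ (hcl r s)) g, mul_inv_cancel_right]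
  -- invariant isotropic subgroups are trivial
  have hiso : ∀ U : Subgroup (R ⧸ Subgroup.center R), (∀ g, ∀ u ∈ U, φ g u ∈ U) →
      (∀ u ∈ U, ∀ u' ∈ U, B u u' = 1) → U = ⊥ := by
    intro U hinv hB
    refine (Subgroup.eq_bot_iff_forall _).2 fun u hu => ?_
    obtain ⟨r, rfl⟩ := QuotientGroup.mk'_surjective _ u
    refine (QuotientGroup.eq_one_iff r).2 ?_
    have h := habz ((U.comap mkc).map R.subtype) (hnormal _ fun g a ha => hinv g _ ha) (by
      rintro _ ⟨a, ha, rfl⟩ _ ⟨b, hb, rfl⟩
      have h1 : cz a b = 1 := hlam ((hB _ ha _ hb).trans (map_one lam).symm)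
      have h2 : (⁅a, b⁆ : R) = 1 := by
        have h3 : (((cz a b : Subgroup.center G)) : G) = 1 := by rw [h1, OneMemClass.coe_one]
        exact Subtype.ext h3
      exact congrArg Subtype.val (commutatorElement_eq_one_iff_mul_comm.1 h2))
      (Subgroup.mem_map_of_mem _ (show r ∈ U.comap mkc from hu))
    exact Subgroup.mem_center_iff.2 fun b => Subtype.ext (Subgroup.mem_center_iff.1 h b)
  -- the Fitting subgroup acts trivially
  have hFker : fittingSubgroup G ≤ φ.ker := by
    refine (Lib.Cores.fittingSubgroup_le_pCore_sup_pPrimeCore p).trans (sup_le ?_ ?_) <;>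
      intro y hy <;> refine MonoidHom.mem_ker.2 (MulEquiv.ext fun v => ?_) <;>
      obtain ⟨r, rfl⟩ := QuotientGroup.mk'_surjective _ v
    · rw [hφmk]
      refine QuotientGroup.eq.2 ?_
      have he : (MulAut.conjNormal y r : R) = ⟨y, hy⟩ * r * (⟨y, hy⟩ : R)⁻¹ :=
        Subtype.ext (MulAut.conjNormal_apply y r)
      rw [he, show ((⟨y, hy⟩ : R) * r * (⟨y, hy⟩ : R)⁻¹)⁻¹ * r = ⁅(⟨y, hy⟩ : R), r⁻¹⁆ by
        simp [commutatorElement_def, mul_assoc]]
      exact hcl _ _
    · rw [hφmk]
      refine congrArg mkc (Subtype.ext ?_)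
      rw [MulAut.conjNormal_apply, ← Lib.Cores.commute_of_mem_pCore_of_mem_pPrimeCore r.2 hy,
        mul_inv_cancel_right]
  -- Sylow subgroups act trivially
  haveI := hmeta
  set N := ((P : Subgroup G).map (QuotientGroup.mk' (fittingSubgroup G))).comap
    (QuotientGroup.mk' (fittingSubgroup G)) with hNdef
  haveI : N.Normal := by
    haveI : ((P.mapSurjective (QuotientGroup.mk'_surjective (fittingSubgroup G)) :
        Sylow p (G ⧸ fittingSubgroup G)) : Subgroup (G ⧸ fittingSubgroup G)).Normal :=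
      (Group.isNilpotent_of_finite_tfae.out 0 3 rfl rfl).mp hmeta p hp _
    exact Subgroup.Normal.comap (by simpa using this) _
  let W : Subgroup (R ⧸ Subgroup.center R) := ⨅ y : (P : Subgroup G), fixedBy (φ y)
  have hW : ∀ v, v ∈ W ↔ ∀ y ∈ P, φ y v = v := fun v => by
    simp only [W, Subgroup.mem_iInf, mem_fixedBy, Subtype.forall]; exact Iff.rfl
  have hNW : ∀ v ∈ W, ∀ y ∈ N, φ y v = v := by
    intro v hv y hy
    have hle : N ≤ pointStab φ v := by
      rw [hNdef, QuotientGroup.comap_map_mk', sup_le_iff]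
      exact ⟨fun f hf' => by rw [mem_pointStab, MonoidHom.mem_ker.1 (hFker hf')]; rfl, (hW v).1 hv⟩
    exact hle hy
  have hWinv : ∀ g, ∀ v ∈ W, φ g v ∈ W := fun g v hv => (hW _).2 fun y hy => by
    have h1 : g⁻¹ * y * g ∈ N := by
      simpa using (inferInstance : N.Normal).conj_mem y
        (show y ∈ N from Subgroup.mem_map_of_mem _ hy) g⁻¹
    have h2 := hNW v hv _ h1
    rw [← MulAut.mul_apply, ← map_mul, show y * g = g * (g⁻¹ * y * g) by group, map_mul,
      MulAut.mul_apply, h2]
  let Rm : R ⧸ Subgroup.center R →* (W →* ℂˣ) :=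
    MonoidHom.mk' (fun v => (B v).comp W.subtype) (fun v w => by rw [map_mul]; rfl)
  have hTinv : ∀ g, ∀ v ∈ Rm.ker, φ g v ∈ Rm.ker := fun g v hv => MonoidHom.mem_ker.2 (by
    refine MonoidHom.ext fun w => ?_
    show B (φ g v) w = 1
    have hw : φ g (φ g⁻¹ (w : R ⧸ Subgroup.center R)) = w := by
      rw [← MulAut.mul_apply, ← map_mul, mul_inv_cancel, map_one]; rfl
    rw [← hw, hBinv]
    exact DFunLike.congr_fun (MonoidHom.mem_ker.1 hv) ⟨_, hWinv g⁻¹ w w.2⟩)
  have hTW : Rm.ker ⊓ W = ⊥ := hiso _ (fun g u hu => ⟨hTinv g u hu.1, hWinv g u hu.2⟩)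
    fun u hu u' hu' => DFunLike.congr_fun (MonoidHom.mem_ker.1 hu.1) ⟨u', hu'.2⟩
  have hVp : IsPGroup p (R ⧸ Subgroup.center R) := hR.to_quotient _
  have hT : Rm.ker = ⊥ := by
    by_contra hne
    haveI : Nontrivial Rm.ker := (Subgroup.nontrivial_iff_ne_bot _).2 hne
    obtain ⟨k, hk0, hk⟩ := (hVp.to_subgroup Rm.ker).nontrivial_iff_card.mp inferInstance
    let ψ := restrictAction (φ.comp (P : Subgroup G).subtype) Rm.ker (fun y v hv => hTinv y v hv)
    letI : MulAction (P : Subgroup G) Rm.ker := MulAction.compHom _ ψ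
    obtain ⟨w, hw, hw1⟩ := IsPGroup.exists_fixed_point_of_prime_dvd_card_of_fixed_point P.2 Rm.ker
      (hk ▸ dvd_pow_self p hk0.ne') (a := 1) (fun y => map_one (ψ y))
    refine hw1 (Subtype.ext ?_)
    have hmem : (w : R ⧸ Subgroup.center R) ∈ Rm.ker ⊓ W :=
      ⟨w.2, (hW _).2 fun y hy => congrArg Subtype.val (hw ⟨y, hy⟩)⟩
    rw [hTW, Subgroup.mem_bot] at hmem
    exact hmem.symm
  have hWtop : W = ⊤ := by
    refine Subgroup.eq_top_of_le_card W ?_
    have h1 : Nat.card (R ⧸ Subgroup.center R) ≤ Nat.card (W →* ℂˣ) :=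
      Nat.card_le_card_of_injective Rm ((MonoidHom.ker_eq_bot_iff Rm).1 hT)
    rwa [CommGroup.card_monoidHom_of_hasEnoughRootsOfUnity W ℂ] at h1
  have hPtriv : ∀ y ∈ P, φ y = 1 := fun y hy => MulEquiv.ext fun v =>
    (hW v).1 (hWtop ▸ Subgroup.mem_top v) y hy
  -- no fixed points of `Q`
  have hQfix : ∀ v, (∀ x : (Q : Subgroup G), φ x v = v) → v = 1 := by
    intro v hv
    have htop : pointStab φ v = ⊤ := by
      rw [← Subgroup.index_eq_one]
      by_contra hne
      obtain ⟨r, hr, hrd⟩ := Nat.exists_prime_and_dvd hne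
      rcases hprimes r hr (hrd.trans (Subgroup.index_dvd_card _)) with rfl | rfl
      · exact P.not_dvd_index (hrd.trans (Subgroup.index_dvd_of_le fun y hy => by
          rw [mem_pointStab, hPtriv y hy]; rfl))
      · exact Q.not_dvd_index (hrd.trans (Subgroup.index_dvd_of_le fun y hy => hv ⟨y, hy⟩))
    have hz : ∀ g, ∀ u ∈ Subgroup.zpowers v, φ g u = u := fun g u hu => by
      obtain ⟨i, rfl⟩ := Subgroup.mem_zpowers_iff.1 hu
      rw [map_zpow, show φ g v = v from mem_pointStab.1 (htop ▸ Subgroup.mem_top g)]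
    have hbot := hiso (Subgroup.zpowers v) (fun g u hu => by rw [hz g u hu]; exact hu) (by
      intro u hu u' hu'
      obtain ⟨i, rfl⟩ := Subgroup.mem_zpowers_iff.1 hu
      obtain ⟨j, rfl⟩ := Subgroup.mem_zpowers_iff.1 hu'
      obtain ⟨r, rfl⟩ := QuotientGroup.mk'_surjective _ v
      have h0 : B (mkc r) (mkc r) = 1 := by
        show lam (cz r r) = 1
        rw [hcz1 r r rfl, map_one]
      rw [map_zpow, map_zpow, MonoidHom.zpow_apply, h0, one_zpow, one_zpow])
    exact Subgroup.mem_bot.1 (hbot ▸ Subgroup.mem_zpowers v)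
  have hco : (Nat.card (R ⧸ Subgroup.center R)).Coprime q := by
    obtain ⟨k, hk⟩ := IsPGroup.iff_card.1 hVp
    rw [hk]
    exact ((Nat.coprime_primes hp.out hq.out).2 hpq).pow_left k
  obtain ⟨x, hx⟩ := exists_small_fixedBy Q.2 hco (φ.comp (Q : Subgroup G).subtype) hQfix
  refine ⟨R ⧸ Subgroup.center R, inferInstance, φ, hPtriv, x, x.2, fun g hg n hn k hk => ?_⟩
  -- the degree
  haveI := Fintype.ofFinite G
  set F := fittingSubgroup G with hFdef
  haveI := Fintype.ofFinite F
  set R' := pCore p F with hR'def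
  haveI := Fintype.ofFinite R'
  have hφF : IsIrrCharacter F (fun y : F => χ y) :=
    restrict_irr_of_nilpotent_quotient hχ hqp F hmeta
  obtain ⟨θ', hθ'⟩ := IsCharacter.exists_constituent
    (IsCharacter.restrict (IsIrrCharacter.isCharacter hφF) R')
    (fun h => IsIrrCharacter.apply_one_ne_zero hφF (congrFun h 1))
  obtain ⟨e, he, hei⟩ := degree_ratio_dvd_index R' hφF θ'.2 hθ'
  have hpe : ¬ p ∣ e := fun hd => by
    haveI := Lib.Cores.fittingSubgroup_isNilpotent G
    let PF : Sylow p F := default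
    haveI : (PF : Subgroup F).Normal :=
      (Group.isNilpotent_of_finite_tfae.out 0 3 rfl rfl).mp inferInstance p hp PF
    exact PF.not_dvd_index ((hd.trans hei).trans
      (Subgroup.index_dvd_of_le (Lib.Cores.le_pCore inferInstance PF.2)))
  have hmap : R'.map F.subtype = R := Lib.Cores.pCore_fittingSubgroup p
  let eR : R ≃* R' :=
    (MulEquiv.subgroupCongr hmap.symm).trans (R'.equivMapOfInjective F.subtype F.subtype_injective).symm
  set θ : IrrCharacter R := ⟨(θ' : R' → ℂ) ∘ eR, IsIrrCharacter.comp_equiv θ'.2 eR⟩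
  obtain ⟨d, -, hd⟩ := IsIrrCharacter.exists_apply_one θ.2
  have hd' : (θ' : R' → ℂ) 1 = d := by
    rw [← hd]
    show _ = (θ' : R' → ℂ) (eR 1)
    rw [map_one]
  have hcd : charDegree (θ : R → ℂ) = d := by
    rw [charDegree, hd, Complex.natCast_re, Nat.floor_natCast]
  have hsq := TwoDegrees.sq_degree_mul_card_center_le θ
  rw [hcd] at hsq
  have hned : n = e * d := by
    have h : χ ((1 : F) : G) = (e : ℂ) * (θ' : R' → ℂ) 1 := he
    rw [OneMemClass.coe_one, hn, hd'] at h
    exact_mod_cast h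
  have hdR : d ∣ Nat.card R := by
    obtain ⟨m, ρ, hρ, hρc⟩ := θ.2
    haveI := hρ
    refine dvd_trans ?_ (Subgroup.center R).index_dvd_card
    have h : (θ : R → ℂ) 1 = (Module.finrank ℂ (Fin m → ℂ) : ℕ) := by rw [← hρc, ρ.char_one]
    rw [hd] at h
    rw [Nat.cast_inj.1 h]
    exact finrank_dvd_index_center ρ
  obtain ⟨kR, hkR⟩ := IsPGroup.iff_card.1 hR
  obtain ⟨j, -, hj⟩ := (Nat.dvd_prime_pow hp.out).1 (hkR ▸ hdR)
  have hkj : k ≤ j := by
    have h1 : p ^ k ∣ d :=
      (((hp.out.coprime_iff_not_dvd).2 hpe).pow_left k).dvd_of_dvd_mul_left (hned ▸ hk)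
    rw [hj] at h1
    exact (Nat.pow_dvd_pow_iff_le_right hp.out.one_lt).1 h1
  -- the class size
  set C := Subgroup.centralizer ({g} : Set G) with hC
  have hrel : C.relIndex R ∣ Nat.card R := (C.subgroupOf R).index_dvd_card
  obtain ⟨i, -, hi⟩ := (Nat.dvd_prime_pow hp.out).1 (hkR ▸ hrel)
  let f : C.subgroupOf R →* fixedBy (φ g) :=
    (mkc.comp (C.subgroupOf R).subtype).codRestrict _ fun r => by
      show φ g (mkc r) = mkc r
      rw [hφmk]
      refine congrArg mkc (Subtype.ext ?_)
      have hr : ((r : R) : G) * g = g * (r : R) :=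
        (Subgroup.mem_centralizer_iff.1 r.2 g rfl).symm
      rw [MulAut.conjNormal_apply, ← hr, mul_inv_cancel_right]
  have hfk : Nat.card f.ker ≤ Nat.card (Subgroup.center R) := by
    refine Nat.card_le_card_of_injective (fun r => (⟨((r : C.subgroupOf R) : R),
      (QuotientGroup.eq_one_iff _).1 (congrArg Subtype.val (MonoidHom.mem_ker.1 r.2))⟩ :
        Subgroup.center R)) fun a b hab => ?_
    exact Subtype.ext (Subtype.ext (congrArg Subtype.val hab :))
  have hCR : Nat.card (C.subgroupOf R) ≤ Nat.card (Subgroup.center R) * Nat.card (fixedBy (φ g)) := by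
    rw [← f.ker.card_mul_index, Subgroup.index_ker]
    exact Nat.mul_le_mul hfk (Subgroup.card_le_card_group _)
  have hRV : Nat.card R = Nat.card (R ⧸ Subgroup.center R) * Nat.card (Subgroup.center R) :=
    Subgroup.card_eq_card_quotient_mul_card_subgroup _
  have hmain : (p ^ j) ^ 2 ≤ (p ^ i) ^ 2 := by
    have hx' : Nat.card (fixedBy (φ g)) ^ 2 ≤ Nat.card (R ⧸ Subgroup.center R) := by rw [hg]; exact hx
    have h1 : Nat.card R ≤ Nat.card (Subgroup.center R) * Nat.card (fixedBy (φ g)) * p ^ i := by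
      rw [← hi, ← (C.subgroupOf R).card_mul_index]
      exact Nat.mul_le_mul_right _ hCR
    rw [hj, hRV] at hsq
    rw [hRV] at h1
    set v := Nat.card (R ⧸ Subgroup.center R)
    set z := Nat.card (Subgroup.center R)
    set c := Nat.card (fixedBy (φ g))
    have hz : 0 < z := Nat.card_pos
    have hv : 0 < v := Nat.card_pos
    have h2 : v ≤ c * p ^ i := Nat.le_of_mul_le_mul_left (by linarith) hz
    have h3 : (p ^ j) ^ 2 ≤ v := Nat.le_of_mul_le_mul_right (by linarith) hz
    have h4 : v * v ≤ v * (p ^ i) ^ 2 :=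
      calc v * v ≤ (c * p ^ i) * (c * p ^ i) := Nat.mul_le_mul h2 h2
        _ = c ^ 2 * (p ^ i) ^ 2 := by ring
        _ ≤ v * (p ^ i) ^ 2 := Nat.mul_le_mul_right _ hx'
    exact h3.trans (Nat.le_of_mul_le_mul_left h4 hv)
  have hji : j ≤ i := (Nat.pow_le_pow_iff_right hp.out.one_lt).1
    ((Nat.pow_le_pow_iff_left two_ne_zero).1 hmain)
  calc p ^ k ∣ p ^ i := pow_dvd_pow p (hkj.trans hji)
    _ ∣ C.index := by
      rw [← hi]
      have h1 := Subgroup.relIndex_mul_relIndex (C ⊓ R) R (C ⊔ R) inf_le_right le_sup_right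
      have h2 := Subgroup.relIndex_mul_relIndex (C ⊓ R) C (C ⊔ R) inf_le_left le_sup_left
      rw [Subgroup.relIndex_sup_right, Subgroup.inf_relIndex_right] at h1
      rw [inf_comm C R, Subgroup.inf_relIndex_right] at h2
      rw [inf_comm C R, ← h2, mul_comm (R.relIndex C)] at h1
      rw [Nat.mul_right_cancel (Nat.pos_of_ne_zero Subgroup.FiniteIndex.index_ne_zero) h1]
      exact Subgroup.relIndex_dvd_index_of_le le_sup_left

end Cfsg.Agent.Lib.PrimitiveNilpotent
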